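import Mathlib.RingTheory.GradedAlgebra.HomogeneousLocalization
import Mathlib.RingTheory.GradedAlgebra.Homogeneous.Maps
import Mathlib.RingTheory.TensorProduct.Basic
import Mathlib.Algebra.Category.Ring.Constructions
import Mathlib.RingTheory.Localization.Away.Basic

/-!
Degree zero localizations commute with change of base rings.
-/

universe u

open CategoryTheory CategoryTheory.Limits TensorProduct HomogeneousLocalization
open scoped HomogeneousIdeal

noncomputable section

namespace Groth.Agent.ProjBC35

variable {A σ : Type u} [CommRing A] [SetLike σ A] [AddSubgroupClass σ A] {𝒜 : ℕ → σ} [GradedRing 𝒜]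
variable {B τ : Type u} [CommRing B] [SetLike τ B] [AddSubgroupClass τ B] {ℬ : ℕ → τ} [GradedRing ℬ]
variable {R R' : Type u} [CommRing R] [CommRing R']

/-- A ring map landing in degree zero, into a degree zero localization. -/
def baseToAway (ρ : R →+* A) (hρ : ∀ r, ρ r ∈ 𝒜 0) (f : A) : R →+* Away 𝒜 f :=
  (fromZeroRingHom 𝒜 (Submonoid.powers f)).comp
    { toFun := fun r => ⟨ρ r, hρ r⟩
      map_one' := Subtype.ext (map_one ρ)
      map_mul' := fun a b => Subtype.ext (map_mul ρ a b)
      map_zero' := Subtype.ext (map_zero ρ)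
      map_add' := fun a b => Subtype.ext (map_add ρ a b) }

theorem val_baseToAway (ρ : R →+* A) (hρ : ∀ r, ρ r ∈ 𝒜 0) (f : A) (r : R) :
    (baseToAway ρ hρ f r).val = algebraMap A (Localization.Away f) (ρ r) := by
  show Localization.mk (ρ r) _ = _
  rw [← Localization.mk_one_eq_algebraMap]
  rfl

section retraction

variable {f : A} {d : ℕ} (hf : f ∈ 𝒜 d)

/-- The degree zero part of a fraction. -/
def degZeroPart (a : A) (n : ℕ) : Away 𝒜 f :=
  Away.mk 𝒜 hf n (GradedRing.proj 𝒜 (n • d) a) (SetLike.coe_mem _)

theorem degZeroPart_congr {a b : A} {n m k : ℕ} (h : f ^ k * (f ^ m * a) = f ^ k * (f ^ n * b)) :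
    degZeroPart hf a n = degZeroPart hf b m := by
  apply val_injective
  simp only [degZeroPart, Away.val_mk]
  rw [Localization.mk_eq_mk_iff, Localization.r_iff_exists]
  refine ⟨⟨f ^ k, k, rfl⟩, ?_⟩
  have key : ∀ (j l : ℕ) (x : A), GradedRing.proj 𝒜 (j • d + l • d) (f ^ j * x) =
      f ^ j * GradedRing.proj 𝒜 (l • d) x := fun j l x => by
    rw [GradedRing.proj_apply, GradedRing.proj_apply,
      DirectSum.coe_decompose_mul_add_of_left_mem 𝒜 (SetLike.pow_mem_graded j hf)]
  have h' := congrArg (GradedRing.proj 𝒜 (k • d + (m • d + n • d))) h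
  rw [← add_nsmul, key k, add_nsmul, key m n a, ← add_nsmul, key k (m + n), add_comm m n,
    add_nsmul, key n m b] at h'
  exact h'

theorem degZeroPart_choose (c : A) (s : Submonoid.powers f) (j : ℕ) (hs : (s : A) = f ^ j) :
    degZeroPart hf c s.2.choose = degZeroPart hf c j := by
  refine degZeroPart_congr hf (k := 0) ?_
  rw [show f ^ s.2.choose = (s : A) from s.2.choose_spec, hs]

/-- The projection of a localization onto its degree zero part. -/
def retraction : Localization.Away f →+ Away 𝒜 f where
  toFun x := Localization.liftOn x (fun a s => degZeroPart hf a s.2.choose) fun {a c b e} h => by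
    obtain ⟨⟨_, k, rfl⟩, hk⟩ := Localization.r_iff_exists.mp h
    refine degZeroPart_congr hf (k := k) ?_
    rw [show f ^ e.2.choose = (e : A) from e.2.choose_spec,
      show f ^ b.2.choose = (b : A) from b.2.choose_spec]
    exact hk
  map_zero' := by
    rw [← Localization.mk_zero 1, Localization.liftOn_mk]
    apply val_injective
    simp [degZeroPart, Away.val_mk, Localization.mk_zero]
  map_add' x y := by
    induction x using Localization.induction_on with | H x => ?_
    induction y using Localization.induction_on with | H y => ?_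
    obtain ⟨a, _, n, rfl⟩ := x
    obtain ⟨b, _, m, rfl⟩ := y
    have e := degZeroPart_choose (𝒜 := 𝒜) hf
    rw [Localization.add_mk, Localization.liftOn_mk, Localization.liftOn_mk, Localization.liftOn_mk,
      e _ _ (n + m) (by simp [pow_add]), e _ _ n rfl, e _ _ m rfl]
    apply val_injective
    have key : ∀ (j l : ℕ) (x : A), GradedRing.proj 𝒜 (j • d + l • d) (f ^ j * x) =
        f ^ j * GradedRing.proj 𝒜 (l • d) x := fun j l x => by
      rw [GradedRing.proj_apply, GradedRing.proj_apply,
        DirectSum.coe_decompose_mul_add_of_left_mem 𝒜 (SetLike.pow_mem_graded j hf)]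
    rw [HomogeneousLocalization.val_add]
    simp only [degZeroPart, Away.val_mk, Localization.add_mk]
    congr 1
    · show GradedRing.proj 𝒜 ((n + m) • d) (f ^ n * b + f ^ m * a) = _
      rw [map_add, add_nsmul, key n m b, add_comm (n • d), key m n a]
    · exact Subtype.ext (by simp [pow_add])

theorem retraction_mk (a : A) (n : ℕ) :
    retraction hf (Localization.mk a ⟨f ^ n, n, rfl⟩) = degZeroPart hf a n := by
  simp only [retraction, AddMonoidHom.coe_mk, ZeroHom.coe_mk, Localization.liftOn_mk]
  exact degZeroPart_choose hf a (⟨f ^ n, n, rfl⟩ : Submonoid.powers f) n rfl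

theorem retraction_val (q : Away 𝒜 f) : retraction hf q.val = q := by
  obtain ⟨n, a, ha, rfl⟩ := q.mk_surjective 𝒜 hf
  rw [Away.val_mk, retraction_mk]
  apply val_injective
  simp only [degZeroPart, Away.val_mk]
  congr 1
  exact DirectSum.decompose_of_mem_same _ ha

theorem retraction_smul (ρ : R →+* A) (hρ : ∀ r, ρ r ∈ 𝒜 0) (r : R) (x : Localization.Away f) :
    retraction hf (algebraMap A (Localization.Away f) (ρ r) * x) =
      baseToAway ρ hρ f r * retraction hf x := by
  induction x using Localization.induction_on with | H x => ?_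
  obtain ⟨a, _, n, rfl⟩ := x
  rw [← Localization.mk_one_eq_algebraMap, Localization.mk_mul, one_mul, retraction_mk,
    retraction_mk]
  apply val_injective
  rw [HomogeneousLocalization.val_mul, val_baseToAway, ← Localization.mk_one_eq_algebraMap]
  simp only [degZeroPart, Away.val_mk]
  rw [Localization.mk_mul, one_mul, GradedRing.proj_apply, GradedRing.proj_apply,
    DirectSum.coe_decompose_mul_of_left_mem_zero 𝒜 (hρ r)]

end retraction

variable (g : R →+* R') (ρ : R →+* A) (hρ : ∀ r, ρ r ∈ 𝒜 0) (ρ' : R' →+* B) (hρ' : ∀ r, ρ' r ∈ ℬ 0)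
  (φ : 𝒜 →+*ᵍ ℬ)

/-- Every element of a base change is a combination of images. -/
theorem closure_eq_top
    (hpo : IsPushout (CommRingCat.ofHom g) (CommRingCat.ofHom ρ) (CommRingCat.ofHom ρ')
      (CommRingCat.ofHom (φ : A →+* B))) :
    Subring.closure (Set.range ρ' ∪ Set.range φ) = ⊤ := by
  let C := Subring.closure (Set.range ρ' ∪ Set.range φ)
  let c₁ : R' →+* C := ρ'.codRestrict C fun r => Subring.subset_closure (Or.inl ⟨r, rfl⟩)
  let c₂ : A →+* C := (φ : A →+* B).codRestrict C fun a => Subring.subset_closure (Or.inr ⟨a, rfl⟩)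
  have hw : ∀ r, ρ' (g r) = φ (ρ r) := fun r => CategoryTheory.congr_fun hpo.w r
  let l : CommRingCat.of B ⟶ CommRingCat.of C := hpo.desc (CommRingCat.ofHom c₁) (CommRingCat.ofHom c₂)
    (CommRingCat.hom_ext (RingHom.ext fun r => Subtype.ext (hw r)))
  have hl : l ≫ CommRingCat.ofHom C.subtype = 𝟙 _ := hpo.hom_ext
    (by rw [hpo.inl_desc_assoc, Category.comp_id]; rfl)
    (by rw [hpo.inr_desc_assoc, Category.comp_id]; rfl)
  refine eq_top_iff.mpr fun b _ => ?_
  rw [show b = ((l.hom b : C) : B) from (CategoryTheory.congr_fun hl b).symm]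
  exact (l.hom b).2

include hρ' in
/-- The irrelevant ideal of a base change is generated by the image. -/
theorem irrelevant_le_map
    (hpo : IsPushout (CommRingCat.ofHom g) (CommRingCat.ofHom ρ) (CommRingCat.ofHom ρ')
      (CommRingCat.ofHom (φ : A →+* B))) : ℬ₊ ≤ (𝒜₊).map φ := by
  classical
  let I : HomogeneousIdeal ℬ := (𝒜₊).map φ
  have key : ∀ b : B, ∃ c ∈ ℬ 0, b - c ∈ I.toIdeal := by
    intro b
    have hb : b ∈ Subring.closure (Set.range ρ' ∪ Set.range φ) := by
      rw [closure_eq_top g ρ ρ' φ hpo]; trivial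
    induction hb using Subring.closure_induction with
    | mem x hx =>
      rcases hx with ⟨r, rfl⟩ | ⟨a, rfl⟩
      · exact ⟨_, hρ' r, by simp⟩
      · refine ⟨φ (GradedRing.proj 𝒜 0 a), φ.map_mem (SetLike.coe_mem _), ?_⟩
        rw [← map_sub]
        refine Ideal.mem_map_of_mem _ ?_
        show GradedRing.proj 𝒜 0 (a - GradedRing.proj 𝒜 0 a) = 0
        rw [map_sub, sub_eq_zero]
        exact (DirectSum.decompose_of_mem_same 𝒜 (SetLike.coe_mem _)).symm
    | zero => exact ⟨0, zero_mem _, by simp⟩
    | one => exact ⟨1, SetLike.one_mem_graded _, by simp⟩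
    | add x y _ _ hx hy =>
      obtain ⟨c, hc, hxc⟩ := hx
      obtain ⟨e, he, hye⟩ := hy
      exact ⟨c + e, add_mem hc he, by rw [add_sub_add_comm]; exact add_mem hxc hye⟩
    | neg x _ hx =>
      obtain ⟨c, hc, hxc⟩ := hx
      exact ⟨-c, neg_mem hc, by rw [← neg_sub', neg_mem_iff]; exact hxc⟩
    | mul x y _ _ hx hy =>
      obtain ⟨c, hc, hxc⟩ := hx
      obtain ⟨e, he, hye⟩ := hy
      refine ⟨c * e, by simpa using SetLike.mul_mem_graded hc he, ?_⟩
      rw [show x * y - c * e = x * (y - e) + (x - c) * e by ring]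
      exact add_mem (Ideal.mul_mem_left _ _ hye) (Ideal.mul_mem_right _ _ hxc)
  rw [HomogeneousIdeal.irrelevant_le]
  intro i hi b (hb : b ∈ ℬ i)
  obtain ⟨c, hc, hbc⟩ := key b
  have h := I.2 i hbc
  rw [DirectSum.decompose_sub, DirectSum.sub_apply, AddSubgroupClass.coe_sub,
    DirectSum.decompose_of_mem_same _ hb, DirectSum.decompose_of_mem_ne _ hc hi.ne, sub_zero] at h
  exact h

variable {f : A} {d : ℕ}

theorem baseToAway_map
    (hw : ∀ r, ρ' (g r) = φ (ρ r)) (r : R) :
    baseToAway ρ' hρ' (φ f) (g r) = Away.map φ f (baseToAway ρ hρ f r) := by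
  apply val_injective
  rw [val_baseToAway, hw, ← Localization.mk_one_eq_algebraMap]
  show _ = Localization.mk (φ (ρ r)) _
  congr 1
  exact Subtype.ext (map_one φ).symm

/-- Degree zero localizations of a base change are the base change of the degree zero
localizations. -/
theorem isPushout_away (hf : f ∈ 𝒜 d)
    (hpo : IsPushout (CommRingCat.ofHom g) (CommRingCat.ofHom ρ) (CommRingCat.ofHom ρ')
      (CommRingCat.ofHom (φ : A →+* B))) :
    IsPushout (CommRingCat.ofHom g) (CommRingCat.ofHom (baseToAway ρ hρ f))
      (CommRingCat.ofHom (baseToAway ρ' hρ' (φ f))) (CommRingCat.ofHom (Away.map φ f)) := by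
  classical
  let : Algebra R R' := g.toAlgebra
  let : Algebra R A := ρ.toAlgebra
  let : Algebra R (Away 𝒜 f) := (baseToAway ρ hρ f).toAlgebra
  let : Algebra R (Away ℬ (φ f)) := ((baseToAway ρ' hρ' (φ f)).comp g).toAlgebra
  let iA : Away 𝒜 f →ₐ[R] Localization.Away f :=
    { toFun := HomogeneousLocalization.val
      map_one' := val_one
      map_mul' := val_mul
      map_zero' := val_zero
      map_add' := val_add
      commutes' := fun r => by
        show (baseToAway ρ hρ f r).val = _
        rw [val_baseToAway, IsScalarTower.algebraMap_apply R A (Localization.Away f)]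
        rfl }
  have hw : ∀ r, ρ' (g r) = φ (ρ r) := fun r => CategoryTheory.congr_fun hpo.w r
  let r' : R' →ₐ[R] Away ℬ (φ f) :=
    { toRingHom := baseToAway ρ' hρ' (φ f), commutes' := fun r => rfl }
  let m : Away 𝒜 f →ₐ[R] Away ℬ (φ f) :=
    { toRingHom := Away.map φ f, commutes' := fun r => (baseToAway_map g ρ hρ ρ' hρ' φ hw r).symm }
  let Θ : Away 𝒜 f ⊗[R] R' →ₐ[R] Away ℬ (φ f) :=
    Algebra.TensorProduct.lift m r' fun _ _ => Commute.all _ _
  -- the map from `B` inverting `φ f`
  let jR : R' →+* Localization.Away f ⊗[R] R' :=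
    (Algebra.TensorProduct.includeRight (R := R) (A := Localization.Away f) (B := R')).toRingHom
  let jA : A →+* Localization.Away f ⊗[R] R' :=
    (Algebra.TensorProduct.includeLeftRingHom (R := R) (B := R')).comp
      (algebraMap A (Localization.Away f))
  let e₀ : CommRingCat.of B ⟶ CommRingCat.of (Localization.Away f ⊗[R] R') :=
    hpo.desc (CommRingCat.ofHom jR) (CommRingCat.ofHom jA)
      (CommRingCat.hom_ext (RingHom.ext fun r => by
        show (1 : Localization.Away f) ⊗ₜ[R] g r = algebraMap A (Localization.Away f) (ρ r) ⊗ₜ[R] 1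
        rw [show g r = r • (1 : R') by rw [Algebra.smul_def, mul_one]; rfl,
          ← TensorProduct.smul_tmul, Algebra.smul_def, mul_one,
          IsScalarTower.algebraMap_apply R A (Localization.Away f)]
        rfl))
  have he₁ : ∀ r, e₀.hom (ρ' r) = (1 : Localization.Away f) ⊗ₜ[R] r := fun r =>
    CategoryTheory.congr_fun
      (hpo.inl_desc (CommRingCat.ofHom jR) (CommRingCat.ofHom jA) _) r
  have he₂ : ∀ a, e₀.hom (φ a) = algebraMap A (Localization.Away f) a ⊗ₜ[R] (1 : R') := fun a =>
    CategoryTheory.congr_fun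
      (hpo.inr_desc (CommRingCat.ofHom jR) (CommRingCat.ofHom jA) _) a
  have hunit : IsUnit (e₀.hom (φ f)) := by
    rw [he₂]
    exact (IsLocalization.Away.algebraMap_isUnit (S := Localization.Away f) f).map
      (Algebra.TensorProduct.includeLeftRingHom (R := R) (B := R'))
  let e : Localization.Away (φ f) →+* Localization.Away f ⊗[R] R' :=
    IsLocalization.Away.lift (φ f) hunit
  have he : ∀ b, e (algebraMap B _ b) = e₀.hom b := fun b =>
    IsLocalization.Away.lift_eq (φ f) hunit b
  let ii : Away 𝒜 f ⊗[R] R' →ₐ[R] Localization.Away f ⊗[R] R' :=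
    Algebra.TensorProduct.map iA (AlgHom.id R R')
  have hcomp : ∀ x, e (Θ x).val = ii x := by
    intro x
    induction x using TensorProduct.induction_on with
    | zero => simp
    | add a b ha hb => rw [map_add, val_add, map_add, ha, hb, map_add]
    | tmul q r =>
      obtain ⟨n, a, ha, rfl⟩ := q.mk_surjective 𝒜 hf
      show e ((Away.map φ f (Away.mk 𝒜 hf n a ha) * baseToAway ρ' hρ' (φ f) r).val) = _
      rw [val_mul, map_mul, val_baseToAway, he, he₁, Away.map_mk, Away.val_mk]
      have hu : e (Localization.mk (φ a) (⟨φ f ^ n, n, rfl⟩ : Submonoid.powers (φ f))) =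
          (Localization.mk a (⟨f ^ n, n, rfl⟩ : Submonoid.powers f)) ⊗ₜ[R] (1 : R') := by
        refine (hunit.pow n).mul_left_cancel ?_
        have h1 : algebraMap B (Localization.Away (φ f)) (φ f ^ n) *
            Localization.mk (φ a) (⟨φ f ^ n, n, rfl⟩ : Submonoid.powers (φ f)) = algebraMap B _ (φ a) := by
          rw [Localization.mk_eq_mk', IsLocalization.mul_mk'_eq_mk'_of_mul,
            IsLocalization.mk'_eq_iff_eq_mul, ← map_mul]
          exact congrArg _ (mul_comm _ _)
        have h2 : algebraMap A (Localization.Away f) (f ^ n) *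
            Localization.mk a (⟨f ^ n, n, rfl⟩ : Submonoid.powers f) = algebraMap A _ a := by
          rw [Localization.mk_eq_mk', IsLocalization.mul_mk'_eq_mk'_of_mul,
            IsLocalization.mk'_eq_iff_eq_mul, ← map_mul]
          exact congrArg _ (mul_comm _ _)
        have h3 : e₀.hom (φ f) ^ n = e (algebraMap B _ (φ f ^ n)) := by rw [he, map_pow]
        have h4 : e₀.hom (φ f) ^ n =
            algebraMap A (Localization.Away f) (f ^ n) ⊗ₜ[R] (1 : R') := by
          rw [he₂, Algebra.TensorProduct.tmul_pow, one_pow, map_pow]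
        conv_lhs => rw [h3, ← map_mul, h1, he, he₂]
        rw [h4, Algebra.TensorProduct.tmul_mul_tmul, h2, one_mul]
      rw [hu, Algebra.TensorProduct.tmul_mul_tmul, mul_one, one_mul]
      simp [ii, iA, Away.val_mk]
  let rr : Localization.Away f →ₗ[R] Away 𝒜 f :=
    { toFun := retraction hf
      map_add' := map_add _
      map_smul' := fun r x => by
        rw [Algebra.smul_def, RingHom.id_apply, Algebra.smul_def,
          IsScalarTower.algebraMap_apply R A (Localization.Away f)]
        exact retraction_smul hf ρ hρ r x }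
  have hinj : Function.Injective Θ := by
    intro x y h
    have hxy : ii x = ii y := by rw [← hcomp, ← hcomp, h]
    have hret : ∀ z, TensorProduct.map rr LinearMap.id (ii z) = z := by
      intro z
      induction z using TensorProduct.induction_on with
      | zero => simp
      | add a b ha hb => rw [map_add, map_add, ha, hb]
      | tmul q r =>
        show rr q.val ⊗ₜ[R] r = _
        rw [show rr q.val = q from retraction_val hf q]
    rw [← hret x, hxy, hret y]
  have hsurj : Function.Surjective Θ := by
    intro q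
    obtain ⟨n, b, hb, rfl⟩ := q.mk_surjective ℬ (φ.map_mem hf)
    suffices hmain : ∀ b : B, ∀ n, ∃ x, Θ x =
        Away.mk ℬ (φ.map_mem hf) n (GradedRing.proj ℬ (n • d) b) (SetLike.coe_mem _) by
      obtain ⟨x, hx⟩ := hmain b n
      refine ⟨x, hx.trans (val_injective _ ?_)⟩
      simp only [Away.val_mk]
      congr 1
      exact DirectSum.decompose_of_mem_same _ hb
    intro b
    have hb' : b ∈ AddSubgroup.closure {y : B | ∃ a r, φ a * ρ' r = y} := by
      have hc : b ∈ Subring.closure (Set.range ρ' ∪ Set.range φ) := by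
        rw [closure_eq_top g ρ ρ' φ hpo]; trivial
      induction hc using Subring.closure_induction with
      | mem x hx =>
        rcases hx with ⟨r, rfl⟩ | ⟨a, rfl⟩
        · exact AddSubgroup.subset_closure ⟨1, r, by rw [map_one, one_mul]⟩
        · exact AddSubgroup.subset_closure ⟨a, 1, by rw [map_one, mul_one]⟩
      | zero => exact zero_mem _
      | one => exact AddSubgroup.subset_closure ⟨1, 1, by rw [map_one, map_one, one_mul]⟩
      | add x y _ _ hx hy => exact add_mem hx hy
      | neg x _ hx => exact neg_mem hx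
      | mul x y _ _ hx hy =>
        rename_i hxc hyc
        clear hxc hyc
        induction hx using AddSubgroup.closure_induction with
        | mem x hx =>
          obtain ⟨a, r, rfl⟩ := hx
          induction hy using AddSubgroup.closure_induction with
          | mem y hy =>
            obtain ⟨a', r', rfl⟩ := hy
            exact AddSubgroup.subset_closure ⟨a * a', r * r', by rw [map_mul, map_mul]; ring⟩
          | zero => rw [mul_zero]; exact zero_mem _
          | add _ _ _ _ h₁ h₂ => rw [mul_add]; exact add_mem h₁ h₂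
          | neg _ _ h₁ => rw [mul_neg]; exact neg_mem h₁
        | zero => rw [zero_mul]; exact zero_mem _
        | add _ _ _ _ h₁ h₂ => rw [add_mul]; exact add_mem h₁ h₂
        | neg _ _ h₁ => rw [neg_mul]; exact neg_mem h₁
    induction hb' using AddSubgroup.closure_induction with
    | mem y hy =>
      intro n
      obtain ⟨a, r, rfl⟩ := hy
      refine ⟨degZeroPart hf a n ⊗ₜ[R] r, val_injective _ ?_⟩
      show ((Away.map φ f (degZeroPart hf a n)) * baseToAway ρ' hρ' (φ f) r).val = _
      rw [val_mul, val_baseToAway]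
      simp only [degZeroPart, Away.map_mk, Away.val_mk]
      rw [← Localization.mk_one_eq_algebraMap, Localization.mk_mul, mul_one]
      congr 1
      rw [GradedRing.proj_apply, GradedRing.proj_apply, φ.map_directSumDecompose]
      exact (DirectSum.coe_decompose_mul_of_right_mem_zero ℬ (hρ' r)).symm
    | zero =>
      intro n
      refine ⟨0, val_injective _ ?_⟩
      simp [Away.val_mk, Localization.mk_zero]
    | add x y _ _ hx hy =>
      intro n
      obtain ⟨p, hp⟩ := hx n
      obtain ⟨q, hq⟩ := hy n
      refine ⟨p + q, val_injective _ ?_⟩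
      rw [map_add, hp, hq, val_add]
      simp only [Away.val_mk, map_add]
      rw [Localization.add_mk_self]
    | neg x _ hx =>
      intro n
      obtain ⟨p, hp⟩ := hx n
      refine ⟨-p, val_injective _ ?_⟩
      rw [map_neg, hp, val_neg]
      simp only [Away.val_mk, map_neg]
      rw [Localization.neg_mk]
  exact (CommRingCat.isPushout_tensorProduct R (Away 𝒜 f) R').flip.of_iso (Iso.refl _) (Iso.refl _)
    (Iso.refl _) (RingEquiv.ofBijective Θ.toRingHom ⟨hinj, hsurj⟩).toCommRingCatIso
    (by simp) (by simp)
    (CommRingCat.hom_ext (RingHom.ext fun r => by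
      show Θ (1 ⊗ₜ[R] r) = baseToAway ρ' hρ' (φ f) r
      show Away.map φ f 1 * baseToAway ρ' hρ' (φ f) r = _
      rw [map_one, one_mul]))
    (CommRingCat.hom_ext (RingHom.ext fun q => by
      show Θ (q ⊗ₜ[R] 1) = Away.map φ f q
      show Away.map φ f q * baseToAway ρ' hρ' (φ f) 1 = _
      rw [map_one, mul_one]))

end Groth.Agent.ProjBC35
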