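import Groth.Agent.ProjBC35.AwayPushout
import Mathlib.AlgebraicGeometry.ProjectiveSpectrum.Basic
import Mathlib.AlgebraicGeometry.Morphisms.Basic

/-!
`Proj` of a ring freely generated in degree one over its base is the base.
-/

universe u

open CategoryTheory CategoryTheory.Limits AlgebraicGeometry HomogeneousLocalization
open scoped HomogeneousIdeal

noncomputable section

namespace Groth.Agent.ProjBC35

variable {A σ : Type u} [CommRing A] [SetLike σ A] [AddSubgroupClass σ A] {𝒜 : ℕ → σ} [GradedRing 𝒜]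
variable {R : Type u} [CommRing R] (ρ : R →+* A) (hρ : ∀ r, ρ r ∈ 𝒜 0)
variable {e : A} (he : e ∈ 𝒜 1)
variable (hsurj : ∀ n, ∀ a ∈ 𝒜 n, ∃ r, a = ρ r * e ^ n)
  (hinj : ∀ r n, ρ r * e ^ n = 0 → r = 0)

include he hsurj in
lemma irrelevant_le_span : (𝒜₊).toIdeal ≤ Ideal.span {e} := by
  rw [HomogeneousIdeal.irrelevant_eq_span, Ideal.span_le]
  simp only [Set.iUnion_subset_iff]
  intro i hi a ha
  obtain ⟨r, rfl⟩ := hsurj i a ha
  exact Ideal.mem_span_singleton.mpr (Dvd.dvd.mul_left (dvd_pow_self e (Nat.pos_iff_ne_zero.mp hi)) _)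

include he hsurj in
lemma isIso_awayι : IsIso (Proj.awayι 𝒜 e he one_pos) := by
  have htop : (Proj.awayι 𝒜 e he one_pos).opensRange = ⊤ := by
    rw [Proj.opensRange_awayι, eq_top_iff]
    intro w _
    show e ∉ w.asHomogeneousIdeal
    intro hew
    exact w.not_irrelevant_le fun a ha =>
      (Ideal.span_singleton_le_iff_mem w.asHomogeneousIdeal.toIdeal).mpr hew
        (irrelevant_le_span ρ he hsurj ha)
  exact isIso_of_isOpenImmersion_of_opensRange_eq_top _ htop

include hρ he hsurj hinj in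
lemma baseToAway_bijective : Function.Bijective (baseToAway ρ hρ e) := by
  refine ⟨(injective_iff_map_eq_zero _).mpr fun r hr => ?_, fun q => ?_⟩
  · have h0 := congrArg HomogeneousLocalization.val hr
    rw [val_baseToAway, val_zero, IsLocalization.map_eq_zero_iff (Submonoid.powers e)] at h0
    obtain ⟨⟨_, n, rfl⟩, hn⟩ := h0
    exact hinj r n (by rw [mul_comm]; exact hn)
  · obtain ⟨n, a, ha, rfl⟩ := q.mk_surjective 𝒜 he
    obtain ⟨r, rfl⟩ := hsurj _ a ha
    refine ⟨r, val_injective _ ?_⟩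
    rw [val_baseToAway, Away.val_mk, ← Localization.mk_one_eq_algebraMap, Localization.mk_eq_mk_iff,
      Localization.r_iff_exists]
    exact ⟨1, by simp; ring⟩

include hρ he hsurj hinj in
/-- `Proj A ⟶ Spec R` is an isomorphism. -/
lemma isIso_toSpecZero_comp (ρ₀ : CommRingCat.of R ⟶ CommRingCat.of (𝒜 0))
    (h₀ : ∀ r, ((ρ₀.hom r : 𝒜 0) : A) = ρ r) :
    IsIso (Proj.toSpecZero 𝒜 ≫ Spec.map ρ₀) := by
  have := isIso_awayι ρ he hsurj
  have key : Proj.awayι 𝒜 e he one_pos ≫ Proj.toSpecZero 𝒜 ≫ Spec.map ρ₀ =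
      Spec.map (CommRingCat.ofHom (baseToAway ρ hρ e)) := by
    rw [Proj.awayι_toSpecZero_assoc, ← Spec.map_comp]
    congr 1
    refine CommRingCat.hom_ext (RingHom.ext fun r => val_injective _ ?_)
    rw [CommRingCat.hom_ofHom, val_baseToAway, ← Localization.mk_one_eq_algebraMap]
    show Localization.mk ((ρ₀.hom r : 𝒜 0) : A) _ = _
    rw [h₀]
    rfl
  have : IsIso (CommRingCat.ofHom (baseToAway ρ hρ e)) :=
    (RingEquiv.ofBijective _ (baseToAway_bijective ρ hρ he hsurj hinj)).toCommRingCatIso.isIso_hom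
  exact IsIso.of_isIso_fac_left key

end Groth.Agent.ProjBC35
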