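import Groth.Agent.ProjQMapX.Props
import Groth.Agent.RelSpecX.Spec
import Groth.Agent.ProjBC35.AwayPushout
import Mathlib.AlgebraicGeometry.PullbackCarrier

/-!
Base change of relative `Proj`.
-/

universe u

open CategoryTheory CategoryTheory.Limits AlgebraicGeometry TopologicalSpace Opposite
open HomogeneousLocalization
open scoped HomogeneousIdeal

noncomputable section

namespace Groth.Agent.ProjBC35

variable {Y Y' : Scheme.{u}} {ψ : Y' ⟶ Y} {𝒮 : RelProj.QCGrAlg Y} {𝒮' : RelProj.QCGrAlg Y'}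
  {u : RelProj.QGrHom ψ 𝒮 𝒮'}
  {P : Scheme.{u}} {p : P ⟶ Y}
  {chart : ∀ (U : Y.Opens) (hU : IsAffineOpen U), (((p ⁻¹ᵁ U : P.Opens) : Scheme.{u}) ≅ Proj (𝒮.deg U hU))}
  {P' : Scheme.{u}} {p' : P' ⟶ Y'}
  {chart' : ∀ (U : Y'.Opens) (hU : IsAffineOpen U), (((p' ⁻¹ᵁ U : P'.Opens) : Scheme.{u}) ≅ Proj (𝒮'.deg U hU))}

lemma emb_comp (hP : RelProj.IsRelProj 𝒮 p chart) (U : Y.Opens) (hU : IsAffineOpen U) :
    RelProj.emb p chart U hU ≫ p =
      Proj.toSpecZero (𝒮.deg U hU) ≫ Spec.map (𝒮.strZero U hU) ≫ hU.fromSpec := by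
  rw [RelProj.emb, Category.assoc, ← hP.chart_over U hU, Iso.inv_hom_id_assoc]

lemma awayι_emb_comp (hP : RelProj.IsRelProj 𝒮 p chart) (U : Y.Opens) (hU : IsAffineOpen U)
    {d : ℕ} (hd : 0 < d) (f : 𝒮.presheaf.obj (op U)) (hf : f ∈ 𝒮.deg U hU d) :
    (Proj.awayι (𝒮.deg U hU) f hf hd ≫ RelProj.emb p chart U hU) ≫ p =
      Spec.map (CommRingCat.ofHom (baseToAway (𝒮.str.app (op U)).hom (𝒮.str_mem U hU) f)) ≫
        hU.fromSpec := by
  rw [Category.assoc, emb_comp hP, Proj.awayι_toSpecZero_assoc, ← Spec.map_comp_assoc]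
  congr 2

lemma isPushout_gradedAt (hu : RelSpec.IsQBaseChange u.toQHom) (U : Y.Opens) (hU : IsAffineOpen U)
    (U' : Y'.Opens) (hU' : IsAffineOpen U') (hle : U' ≤ ψ ⁻¹ᵁ U) :
    IsPushout (CommRingCat.ofHom (ψ.appLE U U' hle).hom) (CommRingCat.ofHom (𝒮.str.app (op U)).hom)
      (CommRingCat.ofHom (𝒮'.str.app (op U')).hom)
      (CommRingCat.ofHom ((u.gradedAt U hU U' hU' hle : _ →+*ᵍ _) :
        𝒮.presheaf.obj (op U) →+* 𝒮'.presheaf.obj (op U'))) :=
  hu U hU U' hU' hle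

lemma irrelevant_le_gradedAt (hu : RelSpec.IsQBaseChange u.toQHom) (U : Y.Opens)
    (hU : IsAffineOpen U) (U' : Y'.Opens) (hU' : IsAffineOpen U') (hle : U' ≤ ψ ⁻¹ᵁ U) :
    (𝒮'.deg U' hU')₊ ≤ ((𝒮.deg U hU)₊).map (u.gradedAt U hU U' hU' hle) :=
  irrelevant_le_map (ψ.appLE U U' hle).hom (𝒮.str.app (op U)).hom (𝒮'.str.app (op U')).hom
    (𝒮'.str_mem U' hU') _ (isPushout_gradedAt hu U hU U' hU' hle)

lemma mem_domOpen_of_le {A σ B τ : Type u} [CommRing A] [SetLike σ A] [AddSubgroupClass σ A]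
    {𝒜 : ℕ → σ} [GradedRing 𝒜] [CommRing B] [SetLike τ B] [AddSubgroupClass τ B] {ℬ : ℕ → τ}
    [GradedRing ℬ] (φ : 𝒜 →+*ᵍ ℬ) (h : ℬ₊ ≤ (𝒜₊).map φ) (w : Proj ℬ) :
    w ∈ RelCone.domOpen φ := by
  rw [RelCone.mem_domOpen]
  by_contra! hne
  refine w.not_irrelevant_le fun b hb => ?_
  exact Ideal.map_le_iff_le_comap.mpr (fun a ha => hne a ha) (h hb)

lemma domQ_eq_top (hu : RelSpec.IsQBaseChange u.toQHom) :
    RelProj.domQ u p' chart' = ⊤ := by
  refine eq_top_iff.mpr fun x _ => ?_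
  obtain ⟨U, hU, U', hU', hx, hle⟩ := RelSpecX.exists_pair ψ (p' x)
  obtain ⟨w, rfl⟩ := ProjQMapX.exists_emb_eq (chart := chart') U' hU' hx
  exact ProjQMapX.emb_mem_domQ u U hU U' hU' hle
    (mem_domOpen_of_le _ (irrelevant_le_gradedAt hu U hU U' hU' hle) w)

variable (hP : RelProj.IsRelProj 𝒮 p chart) (hP' : RelProj.IsRelProj 𝒮' p' chart')
  (hu : RelSpec.IsQBaseChange u.toQHom)

/-- A pullback square may be extended along a monomorphism at its corner. -/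
lemma isPullback_comp_mono {C : Type*} [Category C] {W A B Z Z' : C} {a : W ⟶ A} {b : W ⟶ B}
    {f : A ⟶ Z} {g : B ⟶ Z} (m : Z ⟶ Z') [Mono m] (h : IsPullback a b f g) :
    IsPullback a b (f ≫ m) (g ≫ m) :=
  ⟨⟨by rw [reassoc_of% h.w]⟩, ⟨PullbackCone.IsLimit.mk _
    (fun s => h.lift s.fst s.snd (by
      rw [← cancel_mono m, Category.assoc, Category.assoc]; exact s.condition))
    (fun s => h.lift_fst _ _ _) (fun s => h.lift_snd _ _ _)
    (fun s l h₁ h₂ => h.hom_ext (by rw [h.lift_fst]; exact h₁) (by rw [h.lift_snd]; exact h₂))⟩⟩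

include hP hP' hu in
theorem isPullback_of_isProjQMap {h : P' ⟶ P}
    (hh : RelProj.IsProjQMap u p chart p' chart' h) : IsPullback h p' p ψ := by
  have hcomm : h ≫ p = p' ≫ ψ := ProjQMapX.isProjQMap_comp hP hP' hh
  have hon := (ProjQMapX.isProjQMap_iff.mp hh).2
  set k : P' ⟶ pullback p ψ := pullback.lift h p' hcomm with hk
  refine IsPullback.of_iso_pullback ⟨hcomm⟩ (@asIso _ _ _ _ k ?_)
    (pullback.lift_fst _ _ _) (pullback.lift_snd _ _ _)
  -- the charts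
  let j : ∀ c : ProjQMapX.Chart u, Spec (CommRingCat.of (Away (𝒮.deg c.U c.hU) c.f)) ⟶ P :=
    fun c => Proj.awayι (𝒮.deg c.U c.hU) c.f c.hf c.hd ≫ RelProj.emb p chart c.U c.hU
  have hout : ∀ c : ProjQMapX.Chart u,
      IsPullback (Spec.map (CommRingCat.ofHom (Away.map (u.gradedAt c.U c.hU c.U' c.hU' c.hle) c.f)))
        (Spec.map (CommRingCat.ofHom (baseToAway (𝒮'.str.app (op c.U')).hom (𝒮'.str_mem c.U' c.hU') c.img)))
        (j c ≫ p) (c.hU'.fromSpec ≫ ψ) := fun c => by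
    rw [← IsAffineOpen.SpecMap_appLE_fromSpec ψ c.hU c.hU' c.hle, awayι_emb_comp hP c.U c.hU c.hd c.f c.hf]
    exact isPullback_comp_mono c.hU.fromSpec (isPullback_SpecMap_of_isPushout _ _ _ _
      (isPushout_away (ψ.appLE c.U c.U' c.hle).hom (𝒮.str.app (op c.U)).hom (𝒮.str_mem c.U c.hU)
        (𝒮'.str.app (op c.U')).hom (𝒮'.str_mem c.U' c.hU') _ c.hf
        (isPushout_gradedAt hu c.U c.hU c.U' c.hU' c.hle))).flip
  let O : ProjQMapX.Chart u → (pullback p ψ).Opens := fun c =>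
    pullback.fst p ψ ⁻¹ᵁ (j c).opensRange ⊓ pullback.snd p ψ ⁻¹ᵁ c.U'
  have hO : ⨆ c, O c = ⊤ := by
    refine eq_top_iff.mpr fun x _ => Opens.mem_iSup.mpr ?_
    obtain ⟨_, ⟨U, hU, rfl⟩, hxU, -⟩ := Y.isBasis_affineOpens.exists_subset_of_mem_open
      (Set.mem_univ (p (pullback.fst p ψ x))) isOpen_univ
    obtain ⟨w, hw⟩ := ProjQMapX.exists_emb_eq (chart := chart) U hU hxU
    obtain ⟨a, ha, hwa⟩ := SetLike.not_le_iff_exists.mp w.not_irrelevant_le
    obtain ⟨d, f, hd, hf, hwf⟩ := ProjQMapX.exists_homogeneous_of_mem_irrelevant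
      (GradedRingHom.id (𝒮.deg U hU)) (I := w.asHomogeneousIdeal.toIdeal) ha hwa
    have hx' : pullback.snd p ψ x ∈ ψ ⁻¹ᵁ U := by
      show ψ (pullback.snd p ψ x) ∈ U
      rw [← Scheme.Hom.comp_apply, ← pullback.condition, Scheme.Hom.comp_apply]
      exact hxU
    obtain ⟨_, ⟨U', hU', rfl⟩, hxU', hle⟩ :=
      Y'.isBasis_affineOpens.exists_subset_of_mem_open hx' (ψ ⁻¹ᵁ U).isOpen
    refine ⟨⟨U, hU, U', hU', hle, d, hd, f, hf⟩, ?_, hxU'⟩
    show pullback.fst p ψ x ∈ Set.range (Proj.awayι (𝒮.deg U hU) f hf hd ≫ RelProj.emb p chart U hU)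
    rw [ProjQMapX.range_toP_base U hU hd hf]
    exact ⟨w, hwf, hw⟩
  refine (IsZariskiLocalAtTarget.iff_of_iSup_eq_top (P := MorphismProperty.isomorphisms Scheme.{u})
    (f := k) O hO).mpr fun c => ?_
  show IsIso (k ∣_ O c)
  -- the chart of the fibre product
  let m : pullback (j c ≫ p) (c.hU'.fromSpec ≫ ψ) ⟶ pullback p ψ :=
    pullback.map _ _ p ψ (j c) c.hU'.fromSpec (𝟙 Y) (Category.comp_id _) (Category.comp_id _)
  have hsrc : c.emb p' chart' ≫ k = (hout c).isoPullback.hom ≫ m := by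
    apply pullback.hom_ext
    · rw [Category.assoc, pullback.lift_fst, Category.assoc, pullback.lift_fst,
        IsPullback.isoPullback_hom_fst_assoc]
      exact hh.2 c.U c.hU c.U' c.hU' c.hle c.d c.hd c.f c.hf
    · rw [Category.assoc, pullback.lift_snd, Category.assoc, pullback.lift_snd,
        IsPullback.isoPullback_hom_snd_assoc]
      show (Proj.awayι _ _ _ _ ≫ RelProj.emb p' chart' c.U' c.hU') ≫ p' = _
      exact awayι_emb_comp hP' c.U' c.hU' c.hd _ _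
  have hrange : Set.range (c.emb p' chart' ≫ k) = Set.range (O c).ι := by
    rw [hsrc, Scheme.Opens.range_ι, Scheme.Hom.comp_base, TopCat.coe_comp, Set.range_comp,
      Set.range_eq_univ.mpr (hout c).isoPullback.hom.surjective, Set.image_univ]
    show Set.range m = _
    rw [Scheme.Pullback.range_map, c.hU'.range_fromSpec]
    rfl
  have : IsOpenImmersion (c.emb p' chart' ≫ k) := by
    rw [hsrc]; infer_instance
  have hpre : Set.range (k ⁻¹ᵁ O c).ι = Set.range (c.emb p' chart') := by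
    rw [Scheme.Opens.range_ι]
    ext x
    constructor
    · rintro ⟨hx₁, hx₂⟩
      have hx₁' : h x ∈ Set.range (j c) := by
        have : k ≫ pullback.fst p ψ = h := pullback.lift_fst _ _ _
        rw [← this]; exact hx₁
      have hx₂' : p' x ∈ c.U' := by
        have : k ≫ pullback.snd p ψ = p' := pullback.lift_snd _ _ _
        rw [← this]; exact hx₂
      have hxd : x ∈ RelProj.domQ u p' chart' := by rw [hh.1]; trivial
      obtain ⟨w, hw⟩ := ProjQMapX.exists_emb_eq (chart := chart') c.U' c.hU' hx₂'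
      refine ProjQMapX.Chart.mem_range_emb.mpr ⟨w, ?_, hw⟩
      refine (ProjQMapX.apply_mem_basicOpen_iff hP hP' hon c.hU c.hU' c.hle c.hd c.hf ⟨x, hxd⟩ w hw).mp ?_
      show h x ∈ RelProj.emb p chart c.U c.hU ''ᵁ Proj.basicOpen _ _
      rw [← SetLike.mem_coe, Scheme.Hom.coe_image, ← ProjQMapX.range_toP_base c.U c.hU c.hd c.hf]
      exact hx₁'
    · rintro ⟨y, rfl⟩
      have := hrange.le ⟨y, rfl⟩
      rw [Scheme.Opens.range_ι] at this
      exact this
  have key : k ∣_ O c = (IsOpenImmersion.isoOfRangeEq (k ⁻¹ᵁ O c).ι (c.emb p' chart') hpre).hom ≫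
      (IsOpenImmersion.isoOfRangeEq (c.emb p' chart' ≫ k) (O c).ι hrange).hom := by
    rw [← cancel_mono (O c).ι, morphismRestrict_ι, Category.assoc,
      IsOpenImmersion.isoOfRangeEq_hom_fac, IsOpenImmersion.isoOfRangeEq_hom_fac_assoc]
  rw [key]
  infer_instance

include hP hP' hu in
theorem exists_isProjQMap : ∃ h : P' ⟶ P, RelProj.IsProjQMap u p chart p' chart' h :=
  (ProjQMapX.existsUnique_isProjQMap hP hP' (domQ_eq_top hu)).exists

end Groth.Agent.ProjBC35
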